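import Mathlib.Algebra.Polynomial.Laurent
import Mathlib.RingTheory.GradedAlgebra.Basic
import Mathlib.RingTheory.Localization.Away.Basic

/-!
# Graded maps `A[1/t] → R[T,T⁻¹]` coming from `A → R[T]`
-/

set_option autoImplicit false
universe u v
open scoped Polynomial LaurentPolynomial

namespace Groth.Agent.Lib.Helper24.LaurentLift

variable {R : Type u} {A : Type v} [CommRing R] [CommRing A] [Algebra R A]
    (𝒜 : ℤ → Submodule R A) [GradedAlgebra 𝒜] (t : A) (ht : t ∈ 𝒜 (-1))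
    (ψ : Localization.Away t →ₐ[R] R[T;T⁻¹])
    (hψt : ψ (algebraMap A (Localization.Away t) t) = LaurentPolynomial.T 1)
    (hψ : ∀ (n : ℤ) (a : A), a ∈ 𝒜 n →
      ∃ r : R, ψ (algebraMap A (Localization.Away t) a) =
        LaurentPolynomial.C r * LaurentPolynomial.T (-n))

include ht hψt hψ

theorem forward (χ : A →ₐ[R] R[X])
    (hχ : ∀ a : A, ψ (algebraMap A (Localization.Away t) a) = Polynomial.toLaurentAlg (χ a))
    (a : A) (ha : a ∈ 𝒜 1) : ψ (algebraMap A (Localization.Away t) (t * a)) = 0 := by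
  obtain ⟨r, hr⟩ := hψ 1 a ha
  have h1 : Polynomial.toLaurent (Polynomial.C r) = Polynomial.toLaurent (Polynomial.X * χ a) := by
    rw [map_mul, Polynomial.toLaurent_X, Polynomial.toLaurent_C, ← Polynomial.toLaurentAlg_apply,
      ← hχ a, hr, mul_comm (LaurentPolynomial.T 1), mul_assoc, ← LaurentPolynomial.T_add]
    simp
  have h2 := Polynomial.toLaurent_injective h1
  have h3 : r = 0 := by
    have := congrArg (fun p => Polynomial.coeff p 0) h2
    simpa using this
  rw [map_mul, map_mul, hr, h3, map_zero, zero_mul, mul_zero]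

theorem hom_pos_eq_zero (h : ∀ a ∈ 𝒜 1, ψ (algebraMap A (Localization.Away t) (t * a)) = 0)
    (m : ℕ) (a : A) (ha : a ∈ 𝒜 ((m : ℤ) + 1)) :
    ψ (algebraMap A (Localization.Away t) a) = 0 := by
  have h1 : t ^ m * a ∈ 𝒜 1 := by
    have h2 : t ^ m ∈ 𝒜 (m • (-1 : ℤ)) := SetLike.pow_mem_graded m ht
    have h3 := SetLike.mul_mem_graded h2 ha
    have e : m • (-1 : ℤ) + ((m : ℤ) + 1) = 1 := by
      simp
    rw [e] at h3
    exact h3
  have h4 := h _ h1
  simp only [map_mul, map_pow, hψt] at h4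
  rw [← mul_assoc, ← pow_succ'] at h4
  have h5 : IsUnit ((LaurentPolynomial.T 1 : R[T;T⁻¹]) ^ (m + 1)) :=
    (LaurentPolynomial.isUnit_T 1).pow _
  exact (h5.mul_right_eq_zero).1 h4

theorem mem_range (h : ∀ a ∈ 𝒜 1, ψ (algebraMap A (Localization.Away t) (t * a)) = 0) (a : A) :
    ψ (algebraMap A (Localization.Away t) a) ∈ (Polynomial.toLaurentAlg (R := R)).range := by
  classical
  rw [← DirectSum.sum_support_decompose 𝒜 a, map_sum, map_sum]
  apply Subalgebra.sum_mem
  intro n _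
  have hn : ((DirectSum.decompose 𝒜 a n : 𝒜 n) : A) ∈ 𝒜 n := Submodule.coe_mem _
  rcases le_or_gt n 0 with hn0 | hn0
  · obtain ⟨r, hr⟩ := hψ n _ hn
    refine ⟨Polynomial.C r * Polynomial.X ^ (-n).toNat, ?_⟩
    show Polynomial.toLaurentAlg (Polynomial.C r * Polynomial.X ^ (-n).toNat) = _
    rw [Polynomial.toLaurentAlg_apply, Polynomial.toLaurent_C_mul_X_pow, hr]
    congr 2
    omega
  · obtain ⟨m, rfl⟩ : ∃ m : ℕ, n = (m : ℤ) + 1 := ⟨(n - 1).toNat, by omega⟩
    rw [hom_pos_eq_zero 𝒜 t ht ψ hψt hψ h m _ hn]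
    exact Subalgebra.zero_mem _

theorem main :
    (∃! χ : A →ₐ[R] R[X], ∀ a : A,
        ψ (algebraMap A (Localization.Away t) a) = Polynomial.toLaurentAlg (χ a)) ↔
      ∀ a ∈ 𝒜 1, ψ (algebraMap A (Localization.Away t) (t * a)) = 0 := by
  constructor
  · rintro ⟨χ, hχ, -⟩ a ha
    exact forward 𝒜 t ht ψ hψt hψ χ hχ a ha
  · intro h
    have hinj : Function.Injective (Polynomial.toLaurentAlg (R := R)) := by
      intro x y hxy
      rw [Polynomial.toLaurentAlg_apply, Polynomial.toLaurentAlg_apply] at hxy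
      exact Polynomial.toLaurent_injective hxy
    let ψ₀ : A →ₐ[R] R[T;T⁻¹] := ψ.comp (IsScalarTower.toAlgHom R A (Localization.Away t))
    have hψ₀ : ∀ a, ψ₀ a = ψ (algebraMap A (Localization.Away t) a) := fun a => rfl
    let ψ₁ : A →ₐ[R] (Polynomial.toLaurentAlg (R := R)).range :=
      ψ₀.codRestrict _ (fun a => mem_range 𝒜 t ht ψ hψt hψ h a)
    let e := AlgEquiv.ofInjective (Polynomial.toLaurentAlg (R := R)) hinj
    let χ : A →ₐ[R] R[X] := (e.symm : _ →ₐ[R] R[X]).comp ψ₁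
    have hχ : ∀ a : A, ψ (algebraMap A (Localization.Away t) a) = Polynomial.toLaurentAlg (χ a) := by
      intro a
      have h1 : (e (χ a) : R[T;T⁻¹]) = Polynomial.toLaurentAlg (χ a) := rfl
      rw [← h1]
      show _ = ((e (e.symm (ψ₁ a)) : (Polynomial.toLaurentAlg (R := R)).range) : R[T;T⁻¹])
      rw [AlgEquiv.apply_symm_apply]
      rfl
    refine ⟨χ, hχ, ?_⟩
    intro χ' hχ'
    apply AlgHom.ext
    intro a
    apply hinj
    rw [← hχ a, ← hχ' a]

end Groth.Agent.Lib.Helper24.LaurentLift
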