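import Mathlib

/-!
# Graded-completeness passes to finite projective graded modules
-/

namespace Groth.Agent.Lib.Helper24.ProjComplete

open DirectSum

universe u

variable {S : Type u} [CommRing S] (𝒜 : ℤ → AddSubgroup S) [GradedRing 𝒜]
  {M : Type u} [AddCommGroup M] [Module S M] (ℳ : ℤ → AddSubgroup M)
  [DirectSum.Decomposition ℳ] [SetLike.GradedSMul 𝒜 ℳ]

/-- degree `n` component of `a • y` for `y` homogeneous of degree `d`. -/
theorem decompose_smul_of_mem (a : S) (y : M) (d n : ℤ) (hy : y ∈ ℳ d) :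
    ((decompose ℳ (a • y) n : ℳ n) : M) = ((decompose 𝒜 a (n - d) : 𝒜 (n - d)) : S) • y := by
  classical
  induction a using DirectSum.Decomposition.inductionOn 𝒜 with
  | zero => simp
  | homogeneous a =>
    rename_i j
    have h1 : (a : S) • y ∈ ℳ (j + d) := SetLike.GradedSMul.smul_mem a.2 hy
    by_cases hj : j + d = n
    · subst hj
      rw [decompose_of_mem_same ℳ h1]
      have : j + d - d = j := by ring
      rw [this, decompose_of_mem_same 𝒜 a.2]
    · rw [decompose_of_mem_ne ℳ h1 hj]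
      have : j ≠ n - d := fun h => hj (by rw [h]; ring)
      rw [decompose_of_mem_ne 𝒜 a.2 this, zero_smul]
  | add a b ha hb =>
    rw [add_smul, decompose_add, decompose_add, DirectSum.add_apply, DirectSum.add_apply,
      AddSubgroup.coe_add, AddSubgroup.coe_add, ha, hb, add_smul]

/-- homogeneous generators. -/
theorem exists_homogeneous_generators [Module.Finite S M] :
    ∃ (ι : Type u) (_ : Fintype ι) (x : ι → M) (d : ι → ℤ), (∀ i, x i ∈ ℳ (d i)) ∧
      Submodule.span S (Set.range x) = ⊤ := by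
  classical
  obtain ⟨G, hG⟩ := (Module.Finite.fg_top : (⊤ : Submodule S M).FG)
  let G' : Finset (M × ℤ) := G.biUnion (fun g => (decompose ℳ g).support.image
    (fun n => (((decompose ℳ g n : ℳ n) : M), n)))
  refine ⟨↥G', inferInstance, fun i => i.1.1, fun i => i.1.2, ?_, ?_⟩
  · rintro ⟨⟨y, n⟩, hi⟩
    simp only [G', Finset.mem_biUnion, Finset.mem_image] at hi
    obtain ⟨g, _, m, _, hm⟩ := hi
    simp only [Prod.mk.injEq] at hm
    obtain ⟨rfl, rfl⟩ := hm
    exact (decompose ℳ g m).2
  · rw [eq_top_iff, ← hG, Submodule.span_le]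
    intro g hg
    rw [← DirectSum.sum_support_decompose ℳ g]
    apply Submodule.sum_mem
    intro n hn
    apply Submodule.subset_span
    refine ⟨⟨(((decompose ℳ g n : ℳ n) : M), n), ?_⟩, rfl⟩
    simp only [G', Finset.mem_biUnion, Finset.mem_image]
    exact ⟨g, hg, n, hn, rfl⟩

variable (V : ℕ → HomogeneousIdeal 𝒜)

theorem main (hV : ∀ m, (V (m + 1)).toIdeal ≤ (V m).toIdeal)
    (hsep : ∀ (n : ℤ) (s : S), s ∈ 𝒜 n → (∀ m, s ∈ (V m).toIdeal) → s = 0)
    (hcpl : ∀ (n : ℤ) (f : ℕ → S), (∀ m, f m ∈ 𝒜 n) →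
      (∀ m, f (m + 1) - f m ∈ (V m).toIdeal) → ∃ s ∈ 𝒜 n, ∀ m, s - f m ∈ (V m).toIdeal)
    [Module.Finite S M] [Module.Projective S M] :
    (∀ (n : ℤ) (x : M), x ∈ ℳ n → (∀ m, x ∈ (V m).toIdeal • (⊤ : Submodule S M)) → x = 0) ∧
    (∀ (n : ℤ) (g : ℕ → M), (∀ m, g m ∈ ℳ n) →
      (∀ m, g (m + 1) - g m ∈ (V m).toIdeal • (⊤ : Submodule S M)) →
      ∃ x ∈ ℳ n, ∀ m, x - g m ∈ (V m).toIdeal • (⊤ : Submodule S M)) := by
  classical
  obtain ⟨ι, _, x, d, hxd, hspan⟩ := exists_homogeneous_generators (S := S) ℳ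
  set π : (ι → S) →ₗ[S] M := Fintype.linearCombination S x with hπ
  have hsurj : Function.Surjective π := by
    rw [← LinearMap.range_eq_top, hπ, Fintype.range_linearCombination, hspan]
  obtain ⟨σ, hσ⟩ := Module.projective_lifting_property π LinearMap.id hsurj
  have hπσ : ∀ y, π (σ y) = y := fun y => LinearMap.congr_fun hσ y
  -- the corrected coordinates
  set a' : ℤ → ι → M → S := fun n i y => ((decompose 𝒜 (σ y i) (n - d i) : 𝒜 (n - d i)) : S)
    with ha'
  have ha'mem : ∀ n i y, a' n i y ∈ 𝒜 (n - d i) := fun n i y => (decompose 𝒜 (σ y i) (n - d i)).2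
  have ha'sub : ∀ n i y z, a' n i (y - z) = a' n i y - a' n i z := by
    intro n i y z
    simp only [ha', map_sub, Pi.sub_apply, decompose_sub, DirectSum.sub_apply,
      AddSubgroup.coe_sub]
  have ha'V : ∀ n i m y, y ∈ (V m).toIdeal • (⊤ : Submodule S M) → a' n i y ∈ (V m).toIdeal := by
    intro n i m y hy
    have h1 : σ y i ∈ (V m).toIdeal := by
      refine Submodule.smul_induction_on hy ?_ ?_
      · intro v hv z _
        rw [map_smul, Pi.smul_apply, smul_eq_mul]
        exact Ideal.mul_mem_right _ _ hv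
      · intro y z hy hz
        rw [map_add, Pi.add_apply]
        exact Ideal.add_mem _ hy hz
    exact (V m).isHomogeneous (n - d i) h1
  have hrep : ∀ n y, y ∈ ℳ n → y = ∑ i, a' n i y • x i := by
    intro n y hy
    have h1 : y = ∑ i, σ y i • x i := by
      conv_lhs => rw [← hπσ y, hπ, Fintype.linearCombination_apply]
    have h2 : ((decompose ℳ y n : ℳ n) : M) = y := decompose_of_mem_same ℳ hy
    conv_lhs => rw [← h2, h1]
    rw [decompose_sum, DFinsupp.finset_sum_apply, AddSubmonoidClass.coe_finsetSum]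
    apply Finset.sum_congr rfl
    intro i _
    rw [decompose_smul_of_mem 𝒜 ℳ (σ y i) (x i) (d i) n (hxd i)]
  constructor
  · intro n y hy hyV
    rw [hrep n y hy]
    apply Finset.sum_eq_zero
    intro i _
    rw [hsep (n - d i) (a' n i y) (ha'mem n i y) (fun m => ha'V n i m y (hyV m)), zero_smul]
  · intro n g hg hgV
    have hex : ∀ i, ∃ s ∈ 𝒜 (n - d i), ∀ m, s - a' n i (g m) ∈ (V m).toIdeal := by
      intro i
      apply hcpl (n - d i) (fun m => a' n i (g m)) (fun m => ha'mem n i (g m))
      intro m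
      rw [← ha'sub]
      exact ha'V n i m _ (hgV m)
    choose s hs hsV using hex
    refine ⟨∑ i, s i • x i, ?_, ?_⟩
    · apply AddSubgroup.sum_mem
      intro i _
      have : n = (n - d i) + d i := by ring
      rw [this]
      exact SetLike.GradedSMul.smul_mem (hs i) (hxd i)
    · intro m
      have e1 : (∑ i, s i • x i) - g m = ∑ i, (s i - a' n i (g m)) • x i := by
        conv_lhs => rw [hrep n (g m) (hg m), ← Finset.sum_sub_distrib]
        apply Finset.sum_congr rfl
        intro i _
        rw [sub_smul]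
      rw [e1]
      apply Submodule.sum_mem
      intro i _
      exact Submodule.smul_mem_smul (hsV i m) Submodule.mem_top

end Groth.Agent.Lib.Helper24.ProjComplete
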